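import Groth.Agent.Lib.Kunz.Main
import Groth.Agent.Lib.InjMod.Noetherian
import Groth.Agent.Lib.InjMod.Matlis
import Groth.Agent.Lib.LC.FlatBC
import Groth.Agent.Lib.LC.Support
import Groth.Agent.Lib.Gor.Hull
import Groth.Agent.S0342
import Mathlib.LinearAlgebra.DirectSum.Finsupp
import Mathlib.Algebra.DirectSum.Finsupp

/-!
# Frobenius stable power torsion modules over regular local rings
-/

set_option autoImplicit false
set_option linter.style.haveILetI false
universe u

open IsLocalRing TensorProduct CategoryTheory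

namespace GrothLib.Kunz

variable {R : Type u} [CommRing R] [IsLocalRing R] [IsNoetherianRing R]

omit [IsLocalRing R] [IsNoetherianRing R] in
theorem mem_torsionBy_iff {I : Ideal R} {M : Type u} [AddCommGroup M] [Module R M] {x : M} :
    x ∈ LocCoh.torsionBy I M ↔ ∀ a ∈ I, a • x = 0 :=
  (Submodule.mem_torsionBySet_iff _ _).trans ⟨fun h a ha => h ⟨a, ha⟩, fun h a => h a.1 a.2⟩

omit [IsNoetherianRing R] in
/-- An injection whose range contains the socle of a torsion module is essential. -/
theorem isEssentialInj_of_socle {M X : Type u} [AddCommGroup M] [Module R M] [AddCommGroup X] [Module R X]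
    (hX : LocCoh.IsPowerTorsion (maximalIdeal R) X) (g : M →ₗ[R] X) (hg : Function.Injective g)
    (hsoc : ∀ x : X, (∀ a ∈ maximalIdeal R, a • x = 0) → x ∈ LinearMap.range g) : InjHull.IsEssentialInj g := by
  refine ⟨hg, fun N hN h0 => hN ((Submodule.eq_bot_iff N).2 fun x hx => ?_)⟩
  by_contra hx0
  obtain ⟨a, ha, ha0⟩ := GrothLib.Matlis.exists_smul_mem_socle hX hx0
  exact ha0 ((Submodule.eq_bot_iff _).1 h0 _ ⟨N.smul_mem a hx,
    hsoc _ fun b hb => (Submodule.mem_torsionBySet_iff _ _).1 ha ⟨b, hb⟩⟩)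

variable {T : Type u} [CommRing T] [IsLocalRing T] [IsNoetherianRing T] [Algebra R T] [Module.Flat R T]

omit [IsLocalRing R] [IsLocalRing T] [IsNoetherianRing T] in
/-- Flat base change of the elements killed by an ideal. -/
theorem mem_range_lTensor {M X : Type u} [AddCommGroup M] [Module R M] [AddCommGroup X] [Module R X]
    (g : M →ₗ[R] X) (J : Ideal R) (hg : ∀ x : X, (∀ a ∈ J, a • x = 0) → x ∈ LinearMap.range g)
    (z : T ⊗[R] X) (hz : ∀ a ∈ J.map (algebraMap R T), a • z = 0) :
    z ∈ LinearMap.range (g.baseChange T) := by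
  obtain ⟨s, hs⟩ := IsNoetherian.noetherian J
  let μ : X →ₗ[R] (s → X) := LinearMap.pi fun a => (a : R) • LinearMap.id
  have hex : Function.Exact (LinearMap.ker μ).subtype μ := LinearMap.exact_subtype_ker_map μ
  have h0 : (μ.lTensor T) z = 0 := by
    classical
    refine (TensorProduct.piRight R R T (fun _ : s => X)).injective (funext fun a => ?_)
    rw [map_zero, Pi.zero_apply]
    have : ∀ z : T ⊗[R] X, (TensorProduct.piRight R R T (fun _ : s => X)) (μ.lTensor T z) a =
        (algebraMap R T a) • z := fun z => by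
      induction z using TensorProduct.induction_on with
      | zero => simp
      | add x y hx hy => rw [map_add, map_add, Pi.add_apply, hx, hy, smul_add]
      | tmul t x =>
        rw [LinearMap.lTensor_tmul, TensorProduct.piRight_apply, TensorProduct.piRightHom_tmul]
        show t ⊗ₜ[R] ((a : R) • x) = _
        rw [← TensorProduct.smul_tmul, Algebra.smul_def, TensorProduct.smul_tmul', smul_eq_mul]
    rw [this]
    exact hz _ (Ideal.mem_map_of_mem _ (hs ▸ Ideal.subset_span a.2))
  obtain ⟨w, hw⟩ := (Module.Flat.lTensor_exact T hex z).1 h0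
  rw [← hw]
  clear hw h0 hz z
  induction w using TensorProduct.induction_on with
  | zero => simp
  | add x y hx hy => rw [map_add]; exact add_mem hx hy
  | tmul t x =>
    obtain ⟨m, hm⟩ := hg x.1 fun a ha => by
      rw [← hs] at ha
      induction ha using Submodule.span_induction with
      | mem b hb => exact congrFun (LinearMap.mem_ker.1 x.2) ⟨b, hb⟩
      | zero => exact zero_smul R _
      | add b c _ _ hb hc => rw [add_smul, hb, hc, add_zero]
      | smul r b _ hb => rw [smul_assoc, hb, smul_zero]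
    exact ⟨t ⊗ₜ m, by rw [LinearMap.baseChange_tmul, hm, LinearMap.lTensor_tmul]; rfl⟩

omit [IsNoetherianRing T] in
/-- The step of the Frobenius descent. -/
theorem range_contains_step {M : Type u} [AddCommGroup M] [Module R M] {X : Type u} [AddCommGroup X] [Module R X]
    {MT : Type u} [AddCommGroup MT] [Module T MT] {XT : Type u} [AddCommGroup XT] [Module T XT]
    (hm : (maximalIdeal R).map (algebraMap R T) ≤ maximalIdeal T)
    (hXT : LocCoh.IsPowerTorsion (maximalIdeal T) XT)
    (e : T ⊗[R] M ≃ₗ[T] MT) (θ : T ⊗[R] X ≃ₗ[T] XT) (g : M →ₗ[R] X) (hg : Function.Injective g)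
    (hsoc : ∀ x : X, (∀ a ∈ maximalIdeal R, a • x = 0) → x ∈ LinearMap.range g)
    (gT : MT →ₗ[T] XT) (hgT : InjHull.IsInjectiveHull gT)
    (J : Ideal R) (hJ : ∀ x : X, (∀ a ∈ J, a • x = 0) → x ∈ LinearMap.range g) (x : XT)
    (hx : ∀ a ∈ J.map (algebraMap R T), a • x = 0) : x ∈ LinearMap.range gT := by
  let g' : MT →ₗ[T] XT := θ.toLinearMap ∘ₗ g.baseChange T ∘ₗ e.symm.toLinearMap
  have hg' : Function.Injective g' :=
    θ.injective.comp ((Module.Flat.lTensor_preserves_injective_linearMap g hg).comp e.symm.injective)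
  have hmem : ∀ (J : Ideal R), (∀ x : X, (∀ a ∈ J, a • x = 0) → x ∈ LinearMap.range g) →
      ∀ y : XT, (∀ a ∈ J.map (algebraMap R T), a • y = 0) → y ∈ LinearMap.range g' := by
    intro J hJ y hy
    obtain ⟨w, hw⟩ := mem_range_lTensor g J hJ (θ.symm y) fun a ha => by rw [← map_smul, hy a ha, map_zero]
    exact ⟨e w, by
      show θ (g.baseChange T (e.symm (e w))) = y
      rw [e.symm_apply_apply, hw, θ.apply_symm_apply]⟩
  have hess : InjHull.IsEssentialInj g' :=
    isEssentialInj_of_socle hXT g' hg' fun y hy => hmem _ hsoc y fun a ha => hy a (hm ha)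
  obtain ⟨h, hh⟩ := GrothLib.InjMod.hull_unique (InjHull.IsInjectiveHull.mk hess hgT.isInjective) hgT
  obtain ⟨m, hm'⟩ := hmem J hJ (h.symm x) fun a ha => by rw [← map_smul, hx a ha, map_zero]
  exact ⟨m, by rw [← hh, LinearMap.comp_apply, LinearEquiv.coe_coe, hm', h.apply_symm_apply]⟩

omit [IsLocalRing R] [IsNoetherianRing R] [IsLocalRing T] [IsNoetherianRing T] [Module.Flat R T] in
theorem map_finsupp_equiv {E ET : Type u} [AddCommGroup E] [Module R E] [AddCommGroup ET] [Module T ET]
    (θ : T ⊗[R] E ≃ₗ[T] ET) (ι : Type u) : Nonempty (T ⊗[R] (ι →₀ E) ≃ₗ[T] (ι →₀ ET)) := by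
  classical
  exact ⟨(TensorProduct.finsuppRight R T T E ι).trans (Finsupp.mapRange.linearEquiv θ)⟩

set_option linter.overlappingInstances false in
/-- Flat base change of an injective hull of the residue field of a Gorenstein local ring. -/
theorem nonempty_hull_baseChange [LocCoh.IsGorensteinLocalRing R] [LocCoh.IsGorensteinLocalRing T] (d : ℕ)
    (hR : ringKrullDim R = d) (hT : ringKrullDim T = d)
    (hm : (maximalIdeal R).map (algebraMap R T) ≤ maximalIdeal T)
    (hrad : maximalIdeal T ≤ ((maximalIdeal R).map (algebraMap R T)).radical)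
    {E : Type u} [AddCommGroup E] [Module R E] {f : ResidueField R →ₗ[R] E} (hf : InjHull.IsInjectiveHull f)
    {ET : Type u} [AddCommGroup ET] [Module T ET] {fT : ResidueField T →ₗ[T] ET} (hfT : InjHull.IsInjectiveHull fT) :
    Nonempty (T ⊗[R] E ≃ₗ[T] ET) := by
  obtain ⟨gR, hgR⟩ := GrothLib.Gor.exists_isInjectiveHull R hR
  obtain ⟨gT, hgT⟩ := GrothLib.Gor.exists_isInjectiveHull T hT
  obtain ⟨eR, -⟩ := GrothLib.InjMod.hull_unique hf hgR
  obtain ⟨eT, -⟩ := GrothLib.InjMod.hull_unique hgT hfT
  obtain ⟨ψ⟩ := GrothLib.LC.nonempty_baseChange_equiv (R' := T) (maximalIdeal R) d R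
  have hno : ∀ p : PrimeSpectrum T, (maximalIdeal R).map (algebraMap R T) ≤ p.asIdeal → maximalIdeal T ≤ p.asIdeal :=
    fun p hp => hrad.trans (p.isPrime.radical_le_iff.2 hp)
  let φ : (localCohomology (maximalIdeal T) d).obj (ModuleCat.of T T) ≃ₗ[T]
      (localCohomology ((maximalIdeal R).map (algebraMap R T)) d).obj (ModuleCat.of T T) :=
    LinearEquiv.ofBijective (GrothLib.LC.hmap hm d (ModuleCat.of T T)).hom
      ⟨GrothLib.LC.hmap_injective_of_punctual _ d _ _ hm fun p hp hp' => absurd (hno p hp) hp',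
        GrothLib.LC.hmap_surjective_of_punctual _ d _ _ hm fun p hp hp' => absurd (hno p hp) hp'⟩
  let χ := ((localCohomology ((maximalIdeal R).map (algebraMap R T)) d).mapIso
    (AlgebraTensorModule.rid R T T).toModuleIso).toLinearEquiv
  exact ⟨(eR.baseChange R T _ _).trans (ψ.trans ((χ.trans φ.symm).trans eT))⟩

section RingEquiv

omit [IsLocalRing R] [IsNoetherianRing R] [IsLocalRing T] [IsNoetherianRing T] [Algebra R T] [Module.Flat R T]

variable (ε : T ≃+* R) {X : Type u} [AddCommGroup X] [Module R X] [Module T X]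

/-- Injectivity only depends on the ring up to isomorphism. -/
theorem injective_of_smul_eq (hX : ∀ (c : T) (x : X), c • x = ε c • x) (h : Module.Injective R X) :
    Module.Injective T X := by
  refine Module.Baer.injective fun I g => ?_
  let I' : Ideal R := I.comap ε.symm
  let g' : I' →ₗ[R] X :=
    { toFun := fun r => g ⟨ε.symm r.1, r.2⟩
      map_add' := fun a b => by rw [← map_add]; exact congrArg g (Subtype.ext (map_add ε.symm a.1 b.1))
      map_smul' := fun c a => by
        rw [RingHom.id_apply, show (⟨ε.symm (c • a).1, (c • a).2⟩ : I) = ε.symm c • ⟨ε.symm a.1, a.2⟩ from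
          Subtype.ext (map_mul ε.symm c a.1), map_smul, hX, ε.apply_symm_apply] }
  obtain ⟨φ, hφ⟩ := Module.Baer.of_injective h I' g'
  refine ⟨{ toFun := fun t => φ (ε t)
            map_add' := fun a b => by rw [map_add, map_add]
            map_smul' := fun c t => by rw [RingHom.id_apply, smul_eq_mul, map_mul, ← smul_eq_mul, map_smul, hX] },
    fun t ht => ?_⟩
  have hmem : ε t ∈ I' := by
    show ε.symm (ε t) ∈ I
    rwa [ε.symm_apply_apply]
  exact (hφ (ε t) hmem).trans (congrArg g (Subtype.ext (ε.symm_apply_apply t)))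

theorem isPowerTorsion_of_smul_eq [IsLocalRing R] [IsLocalRing T] (hX : ∀ (c : T) (x : X), c • x = ε c • x)
    (h : LocCoh.IsPowerTorsion (maximalIdeal R) X) : LocCoh.IsPowerTorsion (maximalIdeal T) X := fun x => by
  obtain ⟨n, hn⟩ := h x
  refine ⟨n, fun c hc => ?_⟩
  rw [hX]
  refine hn _ ?_
  have hle : (maximalIdeal T).map ε.toRingHom ≤ maximalIdeal R :=
    Ideal.map_le_iff_le_comap.2 fun z hz => (map_mem_nonunits_iff ε z).2 hz
  exact Ideal.pow_right_mono hle n (by rw [← Ideal.map_pow]; exact Ideal.mem_map_of_mem ε.toRingHom hc)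

theorem map_maximal_iff [IsLocalRing R] [IsLocalRing T] {a : T} :
    ε a ∈ maximalIdeal R ↔ a ∈ maximalIdeal T := map_mem_nonunits_iff ε a

end RingEquiv

end GrothLib.Kunz
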