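import Groth.Agent.Lib.FibreFlat.RegularFlat
import Groth.Agent.Lib.LC.Tight
import Groth.Agent.Lib.LechIndep
import Groth.Agent.Lib.CMFree.Regular
import Mathlib.RingTheory.RingHom.Flat
import Mathlib.RingTheory.Flat.EquationalCriterion
import Mathlib.RingTheory.Ideal.KrullsHeightTheorem
import Mathlib.RingTheory.HopkinsLevitzki
import Mathlib.Algebra.CharP.Frobenius

/-!
# Kunz's theorem for local rings
-/

set_option autoImplicit false
set_option linter.style.haveILetI false
universe u

open IsLocalRing RingTheory.Sequence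

namespace GrothLib.Kunz

/-- A ring map sending a regular sequence with field quotient to a regular sequence is flat. -/
theorem flat_of_regular_image {P L : Type u} [CommRing P] [CommRing L] [IsNoetherianRing P] [IsNoetherianRing L]
    [IsLocalRing L] (φ : P →+* L) (ts : List P) (hP : IsWeaklyRegular P ts) (hL : IsWeaklyRegular L (ts.map φ))
    (hm : ∀ t ∈ ts, φ t ∈ maximalIdeal L) (hk : IsField (P ⧸ Ideal.ofList ts)) : φ.Flat := by
  letI := φ.toAlgebra
  exact GrothLib.FibreFlat.flat_of_weaklyRegular ts hP ((isWeaklyRegular_map_algebraMap_iff L L ts).1 hL) hm hk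

variable (p : ℕ) [Fact p.Prime] (R : Type u) [CommRing R] [CharP R p]

/-- Frobenius of a regular local ring is flat. -/
theorem flat_frobenius [IsRegularLocalRing R] : (frobenius R p).Flat := by
  classical
  obtain ⟨rs, hreg, hmem, hlen⟩ := GrothLib.CMFree.exists_weaklyRegular_of_isRegularLocalRing R
  set n := (maximalIdeal R).spanFinrank
  have hdim : ringKrullDim R = n := (IsRegularLocalRing.spanFinrank_maximalIdeal (R := R)).symm
  have hrn : rs.length = n := by rw [hdim] at hlen; exact_mod_cast hlen
  let e : (R ⧸ (⊥ : Ideal R)) ≃ₗ[R] R := Submodule.quotEquivOfEqBot ⊥ rfl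
  have hm' : maximalIdeal R • (⊤ : Submodule R (R ⧸ (⊥ : Ideal R))) ≠ ⊤ := fun h => (maximalIdeal.isMaximal R).ne_top (by
    have := congrArg (Submodule.map e.toLinearMap) h
    rwa [Submodule.map_smul'', Submodule.map_top, LinearEquiv.range, smul_eq_mul, Ideal.mul_top] at this)
  have hCM : GrothLib.TightSop.CM R n :=
    ⟨hdim, (GrothLib.Depth.le_idealDepth_iff_exists _ hm' _).2 ⟨rs, hrn, hmem, (e.isWeaklyRegular_congr rs).2 hreg⟩⟩
  obtain ⟨gens, hgens⟩ := Submodule.FG.exists_span_set_encard_eq_spanFinrank (maximalIdeal R).fg_of_isNoetherianRing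
  have hfin : gens.Finite := Set.finite_of_encard_eq_coe hgens.1
  let l := hfin.toFinset.toList
  have hl : Ideal.ofList l = maximalIdeal R := by
    rw [← hgens.2]
    exact congrArg Ideal.span (Set.ext fun x => by simp [l])
  have hsop : GrothLib.TightSop.IsSop n l := by
    refine ⟨?_, by rw [hl]; exact (maximalIdeal.isMaximal R).isPrime.radical⟩
    rw [Finset.length_toList]
    have := hgens.1
    rw [hfin.encard_eq_coe_toFinset_card] at this
    exact_mod_cast this
  refine flat_of_regular_image (frobenius R p) l (GrothLib.TightSop.isWeaklyRegular_of_sop hCM hsop) ?_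
    (fun t ht => Ideal.pow_mem_of_mem _ (hsop.mem ht) p (Fact.out : p.Prime).pos) ?_
  · have h1 := GrothLib.TightSop.isWeaklyRegular_of_sop hCM (GrothLib.TightSop.sop_frob p hsop 1)
    have : l.map (frobenius R p) = l.map (· ^ p ^ 1) := List.map_congr_left fun z _ => by rw [frobenius_def, pow_one]
    rw [this]; exact h1
  · rw [hl]
    exact (Ideal.Quotient.maximal_ideal_iff_isField_quotient _).1 (maximalIdeal.isMaximal R)

theorem flat_iterateFrobenius (h : (frobenius R p).Flat) : ∀ e : ℕ, (iterateFrobenius R p e).Flat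
  | 0 => by rw [iterateFrobenius_zero]; exact RingHom.Flat.id R
  | e + 1 => by
    have : iterateFrobenius R p (e + 1) = (frobenius R p).comp (iterateFrobenius R p e) :=
      RingHom.ext fun x => by rw [RingHom.comp_apply, iterateFrobenius_def, iterateFrobenius_def, frobenius_def,
        ← pow_mul, ← pow_succ]
    rw [this]
    exact (flat_iterateFrobenius h e).comp h

omit [CharP R p] [Fact p.Prime] in
/-- Flat ring maps: relations of the image of a family come from relations of the family. -/
theorem coeff_mem_map {S : Type u} [CommRing S] {φ : R →+* S} (hφ : φ.Flat) {ι : Type} [Fintype ι] (x : ι → R)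
    (I : Ideal R) (hx : ∀ a : ι → R, ∑ i, a i * x i = 0 → ∀ i, a i ∈ I) (s : ι → S)
    (hs : ∑ i, s i * φ (x i) = 0) (i : ι) : s i ∈ I.map φ := by
  letI := φ.toAlgebra
  haveI : Module.Flat R S := hφ
  obtain ⟨k, a, y, hy, hrel⟩ := Module.Flat.isTrivialRelation_of_sum_smul_eq_zero (R := R) (M := S) (f := x) (x := s) (by
    rw [← hs]
    exact Finset.sum_congr rfl fun j _ => by rw [Algebra.smul_def, mul_comm]; rfl)
  rw [hy i]
  refine Ideal.sum_mem _ fun j _ => ?_
  rw [Algebra.smul_def]
  refine Ideal.mul_mem_right _ _ (Ideal.mem_map_of_mem φ (hx (fun t => a t j) ?_ i))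
  rw [← hrel j]
  exact Finset.sum_congr rfl fun t _ => mul_comm _ _

omit [CharP R p] [Fact p.Prime] in
theorem length_quotient_sup_mul_le (I : Ideal R) (a b : R) :
    Module.length R (R ⧸ (I ⊔ Ideal.span {a * b})) ≤
      Module.length R (R ⧸ (I ⊔ Ideal.span {a})) + Module.length R (R ⧸ (I ⊔ Ideal.span {b})) := by
  have hle : I ⊔ Ideal.span {a * b} ≤ I ⊔ Ideal.span {a} := by
    refine sup_le_sup_left ((Ideal.span_singleton_le_iff_mem _).2 ?_) _
    exact Ideal.mem_span_singleton'.2 ⟨b, mul_comm b a⟩
  let φ : (R ⧸ (I ⊔ Ideal.span {b})) →ₗ[R] R ⧸ (I ⊔ Ideal.span {a * b}) :=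
    Submodule.mapQ _ _ (LinearMap.mulLeft R a) (by
      refine sup_le (fun z hz => ?_) ((Ideal.span_singleton_le_iff_mem _).2 ?_)
      · exact Submodule.mem_sup_left (I.mul_mem_left a hz)
      · exact Submodule.mem_sup_right (Ideal.mem_span_singleton_self _))
  let ψ : (R ⧸ (I ⊔ Ideal.span {a * b})) →ₗ[R] R ⧸ (I ⊔ Ideal.span {a}) := Submodule.factor hle
  have hex : Function.Exact (LinearMap.range φ).subtype ψ := by
    intro z
    constructor
    · intro hz
      obtain ⟨x, rfl⟩ := Submodule.Quotient.mk_surjective _ z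
      obtain ⟨i, hi, c, hc, rfl⟩ := Submodule.mem_sup.1 ((Submodule.Quotient.mk_eq_zero _).1 hz)
      obtain ⟨d, rfl⟩ := Ideal.mem_span_singleton'.1 hc
      refine ⟨⟨_, ⟨Submodule.Quotient.mk d, rfl⟩⟩, ?_⟩
      show Submodule.Quotient.mk (a * d) = Submodule.Quotient.mk (i + d * a)
      rw [Submodule.Quotient.eq]
      exact Submodule.mem_sup_left (by rw [show a * d - (i + d * a) = -i by ring]; exact neg_mem hi)
    · rintro ⟨⟨_, w, rfl⟩, rfl⟩
      obtain ⟨d, rfl⟩ := Submodule.Quotient.mk_surjective _ w
      show Submodule.Quotient.mk (a * d) = 0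
      exact (Submodule.Quotient.mk_eq_zero _).2 (Submodule.mem_sup_right (Ideal.mem_span_singleton'.2 ⟨d, mul_comm d a⟩))
  rw [Module.length_eq_add_of_exact _ ψ (Submodule.injective_subtype _) (Submodule.factor_surjective _) hex,
    add_comm]
  exact add_le_add le_rfl (Module.length_le_of_surjective φ.rangeRestrict φ.surjective_rangeRestrict)

omit [CharP R p] [Fact p.Prime] in
theorem length_quotient_span_pow_le (q : ℕ) (s : Finset R) : ∀ I : Ideal R,
    Module.length R (R ⧸ (I ⊔ Ideal.span ((fun a => a ^ q) '' (s : Set R)))) ≤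
      (q : ℕ∞) ^ s.card * Module.length R (R ⧸ (I ⊔ Ideal.span (s : Set R))) := by
  classical
  induction s using Finset.induction_on with
  | empty =>
    intro I
    rw [Finset.coe_empty, Set.image_empty, Finset.card_empty, pow_zero, one_mul]
  | insert a s ha ih =>
    intro I
    have hsingle : ∀ (J : Ideal R) (q : ℕ), Module.length R (R ⧸ (J ⊔ Ideal.span {a ^ q})) ≤
        (q : ℕ∞) * Module.length R (R ⧸ (J ⊔ Ideal.span {a})) := by
      intro J q
      induction q with
      | zero =>
        rw [pow_zero, Ideal.span_singleton_one, sup_top_eq]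
        simp
      | succ q ihq =>
        rw [pow_succ]
        refine (length_quotient_sup_mul_le R J (a ^ q) a).trans ?_
        rw [Nat.cast_succ, add_mul, one_mul]
        exact add_le_add ihq le_rfl
    have h1 := ih (I ⊔ Ideal.span {a ^ q})
    have h2 := hsingle (I ⊔ Ideal.span (s : Set R)) q
    rw [Finset.coe_insert, Set.image_insert_eq, Ideal.span_insert, Ideal.span_insert, ← sup_assoc,
      Finset.card_insert_of_notMem ha, pow_succ, mul_assoc]
    refine h1.trans (mul_le_mul_right ?_ _)
    rw [sup_right_comm I (Ideal.span {a ^ q}), sup_comm (Ideal.span {a}) (Ideal.span (s : Set R)), ← sup_assoc]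
    exact h2

variable [IsNoetherianRing R] [IsLocalRing R]

/-- A Noetherian local ring with flat Frobenius is regular. -/
theorem isRegularLocalRing_of_flat_frobenius (h : (frobenius R p).Flat) : IsRegularLocalRing R := by
  classical
  obtain ⟨gens, hgens⟩ := Submodule.FG.exists_span_set_encard_eq_spanFinrank (maximalIdeal R).fg_of_isNoetherianRing
  have hfin : gens.Finite := Set.finite_of_encard_eq_coe hgens.1
  set r := (maximalIdeal R).spanFinrank
  have hcard : hfin.toFinset.card = r := by
    have := hgens.1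
    rw [hfin.encard_eq_coe_toFinset_card] at this
    exact_mod_cast this
  let ε := (hfin.toFinset.equivFinOfCardEq hcard).symm
  let x : Fin r → R := fun i => (ε i : R)
  have hrange : Set.range x = gens := by
    ext z
    constructor
    · rintro ⟨i, rfl⟩; exact hfin.mem_toFinset.1 (ε i).2
    · intro hz
      exact ⟨ε.symm ⟨z, hfin.mem_toFinset.2 hz⟩, congrArg Subtype.val (ε.apply_symm_apply _)⟩
  have hxm : Ideal.span (Set.range x) = maximalIdeal R := by rw [hrange]; exact hgens.2
  have hmin : ∀ a : Fin r → R, ∑ i, a i * x i = 0 → ∀ i, a i ∈ maximalIdeal R := by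
    intro a ha i
    by_contra hi
    rw [mem_maximalIdeal, mem_nonunits_iff, not_not] at hi
    have hxi : x i ∈ Ideal.span (x '' {j | j ≠ i}) := by
      rw [← Finset.sum_erase_add _ _ (Finset.mem_univ i)] at ha
      have : a i * x i ∈ Ideal.span (x '' {j | j ≠ i}) := by
        rw [eq_neg_of_add_eq_zero_right ha]
        exact neg_mem (Ideal.sum_mem _ fun j hj =>
          Ideal.mul_mem_left _ _ (Ideal.subset_span ⟨j, (Finset.mem_erase.1 hj).1, rfl⟩))
      exact (Ideal.unit_mul_mem_iff_mem _ hi).1 this
    have hspan : Ideal.span (x '' {j | j ≠ i}) = maximalIdeal R := by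
      refine le_antisymm (hxm ▸ Ideal.span_mono (Set.image_subset_range _ _)) ?_
      rw [← hxm, Ideal.span_le]
      rintro _ ⟨j, rfl⟩
      rcases eq_or_ne j i with rfl | hne
      · exact hxi
      · exact Ideal.subset_span ⟨j, hne, rfl⟩
    have h1 : r ≤ (x '' {j | j ≠ i}).ncard := by
      show (maximalIdeal R).spanFinrank ≤ _
      rw [← hspan]
      exact Submodule.spanFinrank_span_le_ncard_of_finite (Set.toFinite _)
    have h2 : ({j : Fin r | j ≠ i} : Set (Fin r)).ncard < r := by
      have := Set.ncard_lt_ncard (s := {j : Fin r | j ≠ i}) (t := Set.univ)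
        (Set.ssubset_univ_iff.2 fun h => by simpa using (h ▸ Set.mem_univ i : i ∈ {j : Fin r | j ≠ i})) (Set.toFinite _)
      simpa using this
    exact absurd (h1.trans (Set.ncard_image_le (Set.toFinite _))) (not_le.2 h2)
  obtain ⟨d, hd⟩ := ENat.ne_top_iff_exists.1 (Ideal.height_ne_top (I := maximalIdeal R) (maximalIdeal.isMaximal R).ne_top)
  have hdim : ringKrullDim R = d := by rw [← IsLocalRing.maximalIdeal_height_eq_ringKrullDim, ← hd]; rfl
  obtain ⟨s, hs, hscard⟩ := Ideal.exists_finset_card_eq_height_of_isNoetherianRing (maximalIdeal R)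
  rw [← hd] at hscard
  have hsd : s.card = d := by exact_mod_cast hscard
  haveI : IsArtinianRing (R ⧸ Ideal.span (s : Set R)) := isArtinianRing_iff_krullDimLE_zero.2
    (Ring.krullDimLE_iff.2 (by
      simpa using GrothLib.TightSop.ringKrullDim_quotient_le_zero (I := Ideal.span (s : Set R)) (by
        rw [Ideal.radical_eq_sInf]
        refine le_antisymm (sInf_le ⟨hs.1.2, hs.1.1⟩) (le_sInf fun P hP => ?_)
        haveI := hP.2
        exact hs.2 ⟨hP.2, hP.1⟩ (le_maximalIdeal hP.2.ne_top))))
  haveI : IsArtinian R (R ⧸ Ideal.span (s : Set R)) :=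
    isArtinian_of_surjective_algebraMap (S := R) (R := R ⧸ Ideal.span (s : Set R)) (M := R ⧸ Ideal.span (s : Set R)) Ideal.Quotient.mk_surjective
  obtain ⟨ℓ, hℓ⟩ := ENat.ne_top_iff_exists.1 (Module.length_ne_top (R := R) (M := R ⧸ Ideal.span (s : Set R)))
  have key : ∀ e : ℕ, (p ^ e) ^ r ≤ (p ^ e) ^ d * ℓ := by
    intro e
    have hq : 0 < p ^ e := pow_pos (Fact.out : p.Prime).pos e
    have hmap : (maximalIdeal R).map (iterateFrobenius R p e) = Ideal.span (Set.range fun i => x i ^ p ^ e) := by
      rw [← hxm, Ideal.map_span, ← Set.range_comp]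
      rfl
    have hind : Dual2.Independent (fun i => x i ^ p ^ e) := fun a ha i => by
      rw [← hmap]
      exact coeff_mem_map R (flat_iterateFrobenius p R h e) x (maximalIdeal R) hmin a
        (by simpa [iterateFrobenius_def] using ha) i
    have h1 := GrothLib.LechIndep.length_powers x hxm _ (fun _ => p ^ e) rfl (fun _ => hq) hind
    have hle : Ideal.span ((fun a => a ^ p ^ e) '' (s : Set R)) ≤ Ideal.span (Set.range fun i => x i ^ p ^ e) := by
      rw [Ideal.span_le, ← hmap]
      rintro _ ⟨y, hy, rfl⟩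
      exact Ideal.mem_map_of_mem (iterateFrobenius R p e) (hs.1.2 (Ideal.subset_span hy))
    have h2 := length_quotient_span_pow_le R (p ^ e) s ⊥
    rw [bot_sup_eq, bot_sup_eq, hsd, ← hℓ] at h2
    have h3 := (Module.length_le_of_surjective _ (Submodule.factor_surjective hle)).trans h2
    rw [h1, Finset.prod_const, Finset.card_univ, Fintype.card_fin] at h3
    exact_mod_cast h3
  refine IsRegularLocalRing.of_spanFinrank_maximalIdeal_le R ?_
  rw [hdim]
  by_contra hlt
  have hdr : d < r := by
    by_contra h'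
    exact hlt (Nat.cast_le.2 (not_lt.1 h'))
  have h2 : 2 ^ ℓ ≤ p ^ ℓ := Nat.pow_le_pow_left (Fact.out : p.Prime).two_le _
  have h3 := key ℓ
  have h4 : (p ^ ℓ) ^ (d + 1) ≤ (p ^ ℓ) ^ r := Nat.pow_le_pow_right (pow_pos (Fact.out : p.Prime).pos _) hdr
  rw [pow_succ] at h4
  have h5 : p ^ ℓ ≤ ℓ := Nat.le_of_mul_le_mul_left (h4.trans h3) (pow_pos (pow_pos (Fact.out : p.Prime).pos _) _)
  exact absurd (h2.trans h5) (not_le.2 Nat.lt_two_pow_self)

end GrothLib.Kunz
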