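import Groth.Agent.Lib.Kunz.Local

/-!
# Kunz's theorem
-/

set_option autoImplicit false
set_option linter.style.haveILetI false
universe u

open IsLocalRing

namespace GrothLib.Kunz

variable (p : ℕ) [Fact p.Prime] (R : Type u) [CommRing R] [CharP R p]

theorem comap_frobenius (J : Ideal R) [J.IsPrime] : J.comap (frobenius R p) = J :=
  Ideal.ext fun x => ⟨fun h => ‹J.IsPrime›.mem_of_pow_mem p h,
    fun h => J.pow_mem_of_mem h p (Fact.out : p.Prime).pos⟩

theorem charP_localization (J : Ideal R) [J.IsPrime] : CharP (Localization.AtPrime J) p := by
  refine (CharP.charP_iff_prime_eq_zero (Fact.out : p.Prime)).2 ?_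
  rw [← map_natCast (algebraMap R (Localization.AtPrime J)), CharP.cast_eq_zero, map_zero]

theorem localRingHom_frobenius_flat_iff (J : Ideal R) [J.IsPrime] [CharP (Localization.AtPrime J) p]
    (Q : Ideal R) [Q.IsPrime] (hQ : Q = J.comap (frobenius R p)) :
    (Localization.localRingHom Q J (frobenius R p) hQ).Flat ↔ (frobenius (Localization.AtPrime J) p).Flat := by
  obtain rfl : Q = J := hQ.trans (comap_frobenius p R J)
  rw [Localization.localRingHom_unique Q Q (frobenius R p) hQ (j := frobenius (Localization.AtPrime Q) p)
    fun x => by rw [frobenius_def, frobenius_def, map_pow]]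

/-- Kunz: regularity is flatness of Frobenius. -/
theorem isRegularRing_iff_flat_frobenius [IsNoetherianRing R] : IsRegularRing R ↔ (frobenius R p).Flat := by
  constructor
  · intro hR
    refine RingHom.Flat.ofLocalizationPrime (frobenius R p) fun J hJ => ?_
    haveI := charP_localization p R J
    exact (localRingHom_frobenius_flat_iff p R J _ rfl).2 (flat_frobenius p (Localization.AtPrime J))
  · intro h
    refine isRegularRing_iff.2 fun J hJ => ?_
    haveI := charP_localization p R J
    exact isRegularLocalRing_of_flat_frobenius p _
      ((localRingHom_frobenius_flat_iff p R J J (comap_frobenius p R J).symm).1 (h.localRingHom J J _))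

end GrothLib.Kunz
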