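import Groth.Agent.Lib.Kunz.FModule
import Groth.Prelude.Def_FrobAlg

/-!
# Frobenius stable torsion modules are sums of injective hulls
-/

set_option autoImplicit false
set_option linter.style.haveILetI false
universe u

open IsLocalRing TensorProduct CategoryTheory

namespace GrothLib.Kunz

variable (p : ℕ) [Fact p.Prime] (R : Type u) [CommRing R] [IsRegularLocalRing R] [CharP R p]

theorem exists_equiv_finsupp_of_stable (E : Type u) [AddCommGroup E] [Module R E]
    (f : ResidueField R →ₗ[R] E) (hf : InjHull.IsInjectiveHull f)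
    (M : Type u) [AddCommGroup M] [Module R M] (hM : LocCoh.IsPowerTorsion (maximalIdeal R) M)
    (h : (ModuleCat.extendScalars (frobenius R p)).obj (ModuleCat.of R M) ≅ ModuleCat.of R M) :
    ∃ ι : Type u, Nonempty (M ≃ₗ[R] (ι →₀ E)) := by
  classical
  let T := FrobAlg.Twist p R
  let ε : T ≃+* R := (FrobAlg.toTwist p R).symm
  haveI : IsRegularLocalRing T := IsRegularLocalRing.of_ringEquiv (FrobAlg.toTwist p R)
  haveI : LocCoh.IsGorensteinLocalRing R := Groth.Agent.S0342.result R
  haveI : LocCoh.IsGorensteinLocalRing T := Groth.Agent.S0342.result T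
  haveI : Module.Flat R T := (flat_frobenius p R).comp (RingHom.Flat.of_bijective (FrobAlg.toTwist p R).bijective)
  obtain ⟨d, hd⟩ : ∃ d : ℕ, ringKrullDim R = d :=
    ⟨_, (IsRegularLocalRing.spanFinrank_maximalIdeal (R := R)).symm⟩
  have hdT : ringKrullDim T = d := (ringKrullDim_eq_of_ringEquiv ε).trans hd
  -- twisted module structures
  letI : Module T M := Module.compHom M ε.toRingHom
  letI : Module T E := Module.compHom E ε.toRingHom
  have hsM : ∀ (c : T) (x : M), c • x = ε c • x := fun c x => rfl
  have hsE : ∀ (c : T) (x : E), c • x = ε c • x := fun c x => rfl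
  have hεp : ∀ a : R, ε (algebraMap R T a) = a ^ p := fun a => rfl
  have hm : (maximalIdeal R).map (algebraMap R T) ≤ maximalIdeal T := Ideal.map_le_iff_le_comap.2 fun a ha =>
    Ideal.mem_comap.2 ((map_maximal_iff ε).1 (by rw [hεp]; exact Ideal.pow_mem_of_mem _ ha p (Fact.out : p.Prime).pos))
  have hrad : maximalIdeal T ≤ ((maximalIdeal R).map (algebraMap R T)).radical := fun t ht => by
    refine ⟨p, ?_⟩
    rw [show t ^ p = algebraMap R T (ε t) from ε.injective (by rw [map_pow, hεp])]
    exact Ideal.mem_map_of_mem _ ((map_maximal_iff ε).2 ht)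
  -- the hull over the twisted ring
  have hEtors : LocCoh.IsPowerTorsion (maximalIdeal R) E := GrothLib.Matlis.isPowerTorsion_of_hull hf
  have hEinjT : Module.Injective T E := injective_of_smul_eq ε hsE hf.isInjective
  let x₀ : E := f 1
  let fT : ResidueField T →ₗ[T] E := (maximalIdeal T).liftQ (LinearMap.toSpanSingleton T E x₀) fun c hc => by
    rw [LinearMap.mem_ker, LinearMap.toSpanSingleton_apply, hsE, show ε c • x₀ = f (ε c • 1) from (map_smul f _ _).symm,
      Algebra.smul_def, mul_one, show algebraMap R (ResidueField R) (ε c) = 0 from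
        Ideal.Quotient.eq_zero_iff_mem.2 ((map_maximal_iff ε).2 hc), map_zero]
  have hx₀ : x₀ ≠ 0 := fun h0 => one_ne_zero (hf.injective (h0.trans (map_zero f).symm))
  have hfT : InjHull.IsInjectiveHull fT := by
    refine ⟨isEssentialInj_of_socle (isPowerTorsion_of_smul_eq ε hsE hEtors) fT ?_ fun x hx => ?_, hEinjT⟩
    · refine (injective_iff_map_eq_zero _).2 fun z hz => ?_
      obtain ⟨c, rfl⟩ := Ideal.Quotient.mk_surjective z
      by_contra hc
      have hu : IsUnit c := by
        by_contra hnu
        exact hc (Ideal.Quotient.eq_zero_iff_mem.2 hnu)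
      exact hx₀ ((hu.smul_eq_zero).1 hz)
    · have hmem : x ∈ LocCoh.torsionBy (maximalIdeal R) E := mem_torsionBy_iff.2 fun a ha => by
        have := hx (FrobAlg.toTwist p R a) ((map_maximal_iff ε).1 (by simpa [ε] using ha))
        rw [hsE, RingEquiv.symm_apply_apply] at this
        exact this
      rw [GrothLib.Matlis.torsionBy_eq_range hf.toIsEssentialInj] at hmem
      obtain ⟨z, rfl⟩ := hmem
      obtain ⟨r, rfl⟩ := Ideal.Quotient.mk_surjective z
      refine ⟨Ideal.Quotient.mk _ (FrobAlg.toTwist p R r), ?_⟩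
      show (FrobAlg.toTwist p R r) • x₀ = f (Ideal.Quotient.mk _ r)
      rw [hsE, RingEquiv.symm_apply_apply, ← map_smul, Algebra.smul_def, mul_one]
      rfl
  obtain ⟨θ⟩ := nonempty_hull_baseChange (R := R) (T := T) d hd hdT hm hrad hf hfT
  -- the socle basis
  let V := LocCoh.torsionBy (maximalIdeal R) M
  letI : Module (R ⧸ maximalIdeal R) V :=
    Module.IsTorsionBySet.module (Submodule.torsionBySet_isTorsionBySet (R := R) (M := M) (maximalIdeal R))
  letI : Field (R ⧸ maximalIdeal R) := Ideal.Quotient.field _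
  let ι := Module.Free.ChooseBasisIndex (R ⧸ maximalIdeal R) V
  let b : V ≃ₗ[R] (ι →₀ (R ⧸ maximalIdeal R)) :=
    (Module.Free.chooseBasis (R ⧸ maximalIdeal R) V).repr.restrictScalars R
  let X := ι →₀ E
  let fX : (ι →₀ (R ⧸ maximalIdeal R)) →ₗ[R] X := Finsupp.mapRange.linearMap f
  have hfX : Function.Injective fX := Finsupp.mapRange_injective _ (map_zero f) hf.injective
  have hinj : Module.Injective R X := (Module.Baer.of_equiv (finsuppLEquivDirectSum R E ι).symm
    (GrothLib.InjMod.injective_directSum (fun _ : ι => E) (fun _ => hf.isInjective))).injective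
  have hinjT : Module.Injective T X := (Module.Baer.of_equiv (finsuppLEquivDirectSum T E ι).symm
    (GrothLib.InjMod.injective_directSum (fun _ : ι => E) (fun _ => hEinjT))).injective
  have hsX : ∀ (c : T) (x : X), c • x = ε c • x := fun c x => Finsupp.ext fun i => rfl
  have hXtors : LocCoh.IsPowerTorsion (maximalIdeal R) X := fun x => by
    induction x using Finsupp.induction_linear with
    | zero => exact ⟨0, fun a _ => smul_zero a⟩
    | add y z hy hz =>
      obtain ⟨n, hn⟩ := hy
      obtain ⟨n', hn'⟩ := hz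
      exact ⟨n + n', fun a ha => by
        rw [smul_add, hn a (Ideal.pow_le_pow_right (Nat.le_add_right n n') ha),
          hn' a (Ideal.pow_le_pow_right (Nat.le_add_left n' n) ha), add_zero]⟩
    | single i e =>
      obtain ⟨n, hn⟩ := hEtors e
      exact ⟨n, fun a ha => by rw [Finsupp.smul_single, hn a ha, Finsupp.single_zero]⟩
  obtain ⟨g, hgV⟩ := hinj.out V.subtype V.injective_subtype (fX ∘ₗ b.toLinearMap)
  have hg : Function.Injective g := GrothLib.Matlis.injective_of_socle hM g fun x hx h0 => by
    have h1 : (fX ∘ₗ b.toLinearMap) ⟨x, hx⟩ = (fX ∘ₗ b.toLinearMap) 0 := by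
      rw [map_zero, ← h0]; exact (hgV ⟨x, hx⟩).symm
    exact congrArg Subtype.val (hfX.comp b.injective h1)
  have hsoc : ∀ x : X, (∀ a ∈ maximalIdeal R, a • x = 0) → x ∈ LinearMap.range g := fun x hx => by
    have hx' : ∀ j, x j ∈ LinearMap.range f := fun j =>
      (GrothLib.Matlis.torsionBy_eq_range hf.toIsEssentialInj).le (mem_torsionBy_iff.2 fun a ha => by
        rw [← Finsupp.smul_apply, hx a ha, Finsupp.zero_apply])
    choose y hy using hx'
    let Y : ι →₀ (R ⧸ maximalIdeal R) := Finsupp.onFinset x.support y fun j hj => Finsupp.mem_support_iff.2 fun h0 =>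
      hj (hf.injective (by rw [hy, h0]; exact (map_zero f).symm))
    refine ⟨(b.symm Y : V), (hgV (b.symm Y)).trans (Finsupp.ext fun j => ?_)⟩
    show (Finsupp.mapRange.linearMap f (b (b.symm Y))) j = x j
    rw [b.apply_symm_apply]
    exact hy j
  -- twisted versions
  let gT : M →ₗ[T] X :=
    { toFun := g
      map_add' := g.map_add
      map_smul' := fun c x => by rw [RingHom.id_apply, hsX, hsM]; exact g.map_smul _ _ }
  have hXT := isPowerTorsion_of_smul_eq ε hsX hXtors
  have hgT : InjHull.IsInjectiveHull gT := by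
    refine ⟨isEssentialInj_of_socle hXT gT hg fun x hx => ?_, hinjT⟩
    obtain ⟨m, rfl⟩ := hsoc x fun a ha => by
      have := hx (FrobAlg.toTwist p R a) ((map_maximal_iff ε).1 (by simpa [ε] using ha))
      rw [hsX, RingEquiv.symm_apply_apply] at this
      exact this
    exact ⟨m, rfl⟩
  obtain ⟨θX⟩ := map_finsupp_equiv (R := R) (T := T) θ ι
  let S := (ModuleCat.restrictScalars (frobenius R p)).obj (ModuleCat.of R R)
  let i₁ : T →ₗ[R] S :=
    { toFun := fun x => (ε x : R)
      map_add' := fun a b => map_add _ a b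
      map_smul' := fun c x => by
        show ε (c • x) = frobenius R p c * ε x
        rw [Algebra.smul_def, map_mul, hεp]
        rfl }
  let j : T ⊗[R] M →ₗ[R] S ⊗[R] M := TensorProduct.map i₁ LinearMap.id
  have hj : Function.Bijective j :=
    (TensorProduct.congr (LinearEquiv.ofBijective i₁ ε.bijective) (LinearEquiv.refl R M)).bijective
  let Z := (ModuleCat.extendScalars (frobenius R p)).obj (ModuleCat.of R M)
  let κ : T ⊗[R] M → Z := fun z => j z
  have κ_add : ∀ x y, κ (x + y) = κ x + κ y := fun x y => map_add j x y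
  have hs : ∀ (c : T) z, κ (c • z) = ε c • κ z := by
    intro c z
    induction z with
    | zero => rw [smul_zero, show κ 0 = 0 from map_zero j, smul_zero]
    | add x y hx hy => rw [smul_add, κ_add, κ_add, smul_add, hx, hy]
    | tmul t x => exact (ModuleCat.ExtendScalars.smul_tmul (f := frobenius R p) (M := ModuleCat.of R M) _ _ _).symm
  let e₀ : T ⊗[R] M →ₗ[T] M :=
    { toFun := fun z => h.hom (κ z)
      map_add' := fun a b => by rw [κ_add]; exact map_add h.hom.hom (κ a) (κ b)
      map_smul' := fun c z => by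
        rw [RingHom.id_apply, hsM]
        exact (congrArg h.hom.hom (hs c z)).trans (map_smul h.hom.hom (ε c) (κ z)) }
  let e := LinearEquiv.ofBijective e₀ (h.toLinearEquiv.bijective.comp hj)
  have hiter : ∀ k : ℕ, ∃ J : Ideal R, J ≤ (maximalIdeal R) ^ (k + 1) ∧
      ∀ x : X, (∀ a ∈ J, a • x = 0) → x ∈ LinearMap.range g := by
    intro k
    induction k with
    | zero => exact ⟨maximalIdeal R, by rw [zero_add, pow_one], hsoc⟩
    | succ k ih =>
      obtain ⟨J, hJle, hJ⟩ := ih
      refine ⟨(J.map (algebraMap R T)).map ε.toRingHom, ?_, fun x hx => ?_⟩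
      · refine Ideal.map_le_iff_le_comap.2 (Ideal.map_le_iff_le_comap.2 fun a ha => ?_)
        rw [Ideal.mem_comap, Ideal.mem_comap]
        show ε (algebraMap R T a) ∈ _
        rw [hεp]
        refine Ideal.pow_le_pow_right (show k + 1 + 1 ≤ (k + 1) * p from ?_) (by
          rw [pow_mul]; exact Ideal.pow_mem_pow (hJle ha) p)
        calc k + 1 + 1 ≤ (k + 1) * 2 := by omega
          _ ≤ _ := Nat.mul_le_mul_left _ (Fact.out : p.Prime).two_le
      · obtain ⟨m, hm'⟩ := range_contains_step (R := R) (T := T) hm hXT e θX g hg hsoc gT hgT J hJ x fun a ha => by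
          rw [hsX]; exact hx _ (Ideal.mem_map_of_mem ε.toRingHom ha)
        exact ⟨m, hm'⟩
  refine ⟨ι, ⟨LinearEquiv.ofBijective g ⟨hg, fun x => ?_⟩⟩⟩
  obtain ⟨n, hn⟩ := hXtors x
  obtain ⟨J, hJle, hJ⟩ := hiter n
  exact hJ x fun a ha => hn a (Ideal.pow_le_pow_right (Nat.le_succ n) (hJle ha))

end GrothLib.Kunz
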